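import Groth.Agent.SpTrace.Page
import Groth.Agent.S8355
import Mathlib.Algebra.BigOperators.Intervals
import Mathlib.Algebra.Order.Antidiag.Prod
import Mathlib.Topology.Algebra.InfiniteSum.Constructions

/-!
# Traces on the abutment
-/

set_option autoImplicit false
set_option linter.style.haveILetI false
set_option linter.unusedSectionVars false
set_option backward.isDefEq.respectTransparency false
set_option backward.isDefEq.respectTransparency.types false
universe u
open CategoryTheory CategoryTheory.Limits Polynomial Module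

noncomputable section

namespace Groth.Agent.SpTrace

variable {N : ℕ} {a c : ℕ → ℝ} {b d : ℕ → ℕ} (E : E₂CohomologicalSpectralSequence (ModuleCat.{u} ℂ[X]))

theorem cond_all (h2 : Cond N a c b d (E.page 2 le_rfl).X) (r : ℤ) (hr : 2 ≤ r) :
    Cond N a c b d (E.page r hr).X := by
  induction r, hr using Int.le_induction with
  | base => exact h2
  | succ r hr ih => exact cond_succ E r hr ih

theorem tsum_all (ha : ∀ q, 0 ≤ a q) (hc : ∀ p, 0 ≤ c p) (hsum : Summable fun p : ℕ => c p * (d p : ℝ))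
    (h2 : Cond N a c b d (E.page 2 le_rfl).X) (r : ℤ) (hr : 2 ≤ r) :
    ∑' pq, T (E.page r hr).X pq = ∑' pq, T (E.page 2 le_rfl).X pq := by
  induction r, hr using Int.le_induction with
  | base => rfl
  | succ r hr ih => exact (tsum_succ E ha hc hsum r hr (cond_all E h2 r hr)).trans ih

theorem tr_stable (h2 : Cond N a c b d (E.page 2 le_rfl).X) (pq : ℤ × ℤ) (k₀ : ℤ) (hk₀ : 2 ≤ k₀)
    (hz : ∀ (k : ℤ) (hk : 2 ≤ k), k₀ ≤ k → gout E k hk pq = 0 ∧ gout E k hk (pq - (k, 1 - k)) = 0)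
    (r : ℤ) (hr : k₀ ≤ r) :
    tr ((E.page r (hk₀.trans hr)).X pq) = tr ((E.page k₀ hk₀).X pq) := by
  induction r, hr using Int.le_induction with
  | base => rfl
  | succ r hr ih =>
    rw [tr_succ E r (hk₀.trans hr) pq ((cond_all E h2 r _).fd pq), (hz r _ hr).1, (hz r _ hr).2, sub_zero, sub_zero]
    exact ih

variable {H : ℤ → ModuleCat.{u} ℂ[X]} (A : SpSeq.Abutment E H)

theorem tr_limit (h2 : Cond N a c b d (E.page 2 le_rfl).X) (pq : ℤ × ℤ) :
    tr ((E.page (A.rk pq) (A.stat pq).1).X pq) = tr ((E.page ((N : ℤ) + 2) (by omega)).X pq) := by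
  have e1 := tr_stable E h2 pq (A.rk pq) (A.stat pq).1 (fun k hk hle => by
    obtain ⟨hd1, hd2⟩ := (A.stat pq).2 k hk hle
    refine ⟨tr_rg_zero _ hd2, ?_⟩
    have : ∀ j, j = pq → tr (rg ((E.page k hk).d (pq - (k, 1 - k)) j)) = 0 := fun j hj => by
      subst hj; exact tr_rg_zero _ hd1
    exact this _ (sub_add_cancel _ _)) _ (le_max_left (A.rk pq) ((N : ℤ) + 2))
  have e2 := tr_stable E h2 pq ((N : ℤ) + 2) (by omega) (fun k hk hle =>
    ⟨d_eq_zero E k hk hle (cond_all E h2 k hk) _, d_eq_zero E k hk hle (cond_all E h2 k hk) _⟩) _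
    (le_max_right (A.rk pq) ((N : ℤ) + 2))
  exact e1.symm.trans e2

/-- The finite dimensionality and trace of a step of the filtration. -/
theorem fil_trace (h2 : Cond N a c b d (E.page 2 le_rfl).X) (n hi : ℤ) (hbot : A.fil n hi = ⊥) :
    ∀ (k : ℕ), FD ((A.fil n (hi - k)) : ModuleCat.{u} ℂ[X]) ∧
      tr ((A.fil n (hi - k)) : ModuleCat.{u} ℂ[X]) =
        ∑ p ∈ Finset.Ico (hi - k) hi, tr ((E.page ((N : ℤ) + 2) (by omega)).X (p, n - p)) := by
  intro k
  induction k with
  | zero =>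
    rw [Nat.cast_zero, sub_zero, Finset.Ico_self, Finset.sum_empty, hbot]
    haveI := subsingleton_of_isZero (IsZero.of_iso (isZero_zero _) Subobject.botCoeIsoZero :
      IsZero (((⊥ : Subobject (H n))) : ModuleCat.{u} ℂ[X]))
    exact ⟨fd_of_subsingleton, tr_of_subsingleton⟩
  | succ k ih =>
    obtain ⟨p, hp⟩ : ∃ p, p = hi - ((k + 1 : ℕ) : ℤ) := ⟨_, rfl⟩
    rw [← hp]
    have hk1 : hi - (k : ℤ) = p + 1 := by rw [hp]; push_cast; ring
    rw [hk1] at ih
    let ι := (A.fil n (p + 1)).ofLE (A.fil n p) (A.anti n (Int.le_add_one le_rfl))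
    let S := ShortComplex.mk ι (cokernel.π ι) (cokernel.condition ι)
    have hS : S.ShortExact :=
      { exact := ShortComplex.exact_of_g_is_cokernel _ (cokernelIsCokernel ι)
        mono_f := inferInstanceAs (Mono ι)
        epi_g := inferInstanceAs (Epi (cokernel.π ι)) }
    have hs := ses_of_shortExact hS
    let pq : ℤ × ℤ := (p, n - p)
    have hgr : ∀ (m : ℤ), m = n → Nonempty ((E.page (A.rk pq) (A.stat pq).1).X pq ≅
        SpSeq.grPiece (A.fil m) (A.anti m) p) → Nonempty ((E.page (A.rk pq) (A.stat pq).1).X pq ≅ cokernel ι) :=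
      fun m hm h => by subst hm; exact h
    obtain ⟨e⟩ := hgr (pq.1 + pq.2) (add_sub_cancel p n) ⟨A.β pq⟩
    have hfd := (cond_all E h2 (A.rk pq) (A.stat pq).1).fd pq
    have hC : FD S.X₃ := fd_iso e hfd
    have hB : FD S.X₂ := fd_middle hs ih.1 hC
    refine ⟨hB, ?_⟩
    show tr S.X₂ = _
    rw [tr_add hs hB, ← Finset.insert_Ico_add_one_left_eq_Ico (show p < hi by omega), Finset.sum_insert (by simp), add_comm (tr (E.page _ _ |>.X _))]
    exact congrArg₂ (· + ·) ih.2 ((tr_iso e hfd).symm.trans (tr_limit E A h2 pq))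

include A in
theorem tr_H (h2 : Cond N a c b d (E.page 2 le_rfl).X) (hfin : ∀ n, A.IsFinite n) (n : ℕ) :
    tr (H n) = ∑ x ∈ Finset.antidiagonal n, tr ((E.page ((N : ℤ) + 2) (by omega)).X (nat2 x)) := by
  obtain ⟨⟨lo, hlo⟩, ⟨hi, hhi⟩⟩ := hfin n
  change A.fil n lo = ⊤ at hlo
  change A.fil n hi = ⊥ at hhi
  let lo' := min lo 0
  let hi' := max hi ((n : ℤ) + 1)
  have hlo' : A.fil n lo' = ⊤ := top_le_iff.1 (hlo.ge.trans (A.anti n (min_le_left lo 0)))
  have hhi' : A.fil n hi' = ⊥ := le_bot_iff.1 ((A.anti n (le_max_left hi _)).trans hhi.le)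
  obtain ⟨k, hk⟩ : ∃ k : ℕ, (k : ℤ) = hi' - lo' := ⟨(hi' - lo').toNat, Int.toNat_of_nonneg (by omega)⟩
  obtain ⟨hfd, htr⟩ := fil_trace E A h2 n hi' hhi' k
  rw [show hi' - (k : ℤ) = lo' by omega, hlo'] at hfd htr
  rw [← tr_iso (asIso (⊤ : Subobject (H n)).arrow) hfd, htr]
  have hR := cond_all E h2 ((N : ℤ) + 2) (by omega)
  let f : ℤ → ℂ := fun p => tr ((E.page ((N : ℤ) + 2) (by omega)).X (p, (n : ℤ) - p))
  rw [← Finset.sum_subset (s₁ := (Finset.range (n + 1)).map Nat.castEmbedding) (f := f)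
    (fun p hp => by
      obtain ⟨m, hm, rfl⟩ := Finset.mem_map.1 hp
      rw [Finset.mem_range] at hm
      rw [Finset.mem_Ico]
      simp only [Nat.castEmbedding_apply]
      omega)
    (fun p _ hp => by
      haveI := subsingleton_of_isZero (hR.quad (p, (n : ℤ) - p) (by
        by_contra hn
        simp only [not_or, not_lt] at hn
        exact hp (Finset.mem_map.2 ⟨p.toNat, Finset.mem_range.2 (by omega), Int.toNat_of_nonneg hn.1⟩)))
      exact tr_of_subsingleton), Finset.sum_map, Finset.Nat.sum_antidiagonal_eq_sum_range_succ_mk]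
  refine Finset.sum_congr rfl fun m hm => ?_
  rw [Finset.mem_range] at hm
  simp only [f, nat2, Nat.castEmbedding_apply]
  rw [Nat.cast_sub (by omega : m ≤ n)]

include A in
/-- The alternating sum of the traces on the abutment. -/
theorem abutment_sum (ha : ∀ q, 0 ≤ a q) (hc : ∀ p, 0 ≤ c p) (hsum : Summable fun p : ℕ => c p * (d p : ℝ))
    (h2 : Cond N a c b d (E.page 2 le_rfl).X) (hfin : ∀ n, A.IsFinite n) :
    Summable (fun n : ℕ => ‖tr (H n)‖) ∧
      ∑' n : ℕ, (-1 : ℂ) ^ n * tr (H n) = ∑' pq : ℤ × ℤ, T (E.page 2 le_rfl).X pq := by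
  have hR := cond_all E h2 ((N : ℤ) + 2) (by omega)
  let f : ℕ × ℕ → ℂ := fun x => (-1 : ℂ) ^ (x.1 + x.2) * tr ((E.page ((N : ℤ) + 2) (by omega)).X (nat2 x))
  have hf : Summable f := by
    refine ((nat2_injective.summable_iff ?_).2 (hR.summable_T ha hc hsum)).congr fun x => ?_
    · intro x hx
      haveI := subsingleton_of_isZero (hR.quad x (by
        by_contra hn
        exact hx (mem_range_nat2 (by omega))))
      rw [T, tr_of_subsingleton, mul_zero]
    · show T _ (nat2 x) = _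
      rw [T, sgn, nat2, ← Nat.cast_add, zpow_natCast]
      rfl
  have hs : Summable (f ∘ Finset.HasAntidiagonal.sigmaAntidiagonalEquivProd) := Finset.HasAntidiagonal.sigmaAntidiagonalEquivProd.summable_iff.2 hf
  have hn : ∀ n : ℕ, (-1 : ℂ) ^ n * tr (H n) = ∑' y : Finset.antidiagonal n, f y.1 := fun n => by
    rw [tr_H E A h2 hfin n, Finset.mul_sum, Finset.tsum_subtype]
    refine Finset.sum_congr rfl fun x hx => ?_
    rw [Finset.mem_antidiagonal] at hx
    simp only [f, hx]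
  constructor
  · refine Summable.of_nonneg_of_le (fun n => norm_nonneg _) (fun n => ?_) hs.norm.sigma
    have : ‖tr (H n)‖ = ‖(-1 : ℂ) ^ n * tr (H n)‖ := by simp
    rw [this, hn n]
    exact norm_tsum_le_tsum_norm Summable.of_finite
  · rw [tsum_congr hn]
    refine (hs.tsum_sigma' fun n => Summable.of_finite).symm.trans ((Finset.HasAntidiagonal.sigmaAntidiagonalEquivProd.tsum_eq f).trans ?_)
    rw [show (∑' x, f x) = ∑' pq : ℕ × ℕ, (-1 : ℂ) ^ (pq.1 + pq.2) *
      tr ((E.page ((N : ℤ) + 2) (by omega)).X ((pq.1 : ℤ), (pq.2 : ℤ))) from rfl, hR.tsum_T]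
    exact tsum_all E ha hc hsum h2 _ _

end Groth.Agent.SpTrace
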