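import Groth.Agent.SpTrace.Basic
import Groth.Prelude.Def_SpSeq
import Mathlib.Analysis.Normed.Ring.InfiniteSum

/-!
# The alternating sum of traces on the pages of a spectral sequence
-/

set_option autoImplicit false
set_option linter.style.haveILetI false
set_option linter.unusedSectionVars false
set_option backward.isDefEq.respectTransparency false
set_option backward.isDefEq.respectTransparency.types false
universe u
open CategoryTheory CategoryTheory.Limits Polynomial Module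

noncomputable section

namespace Groth.Agent.SpTrace

/-- The boundedness condition on a page. -/
structure Cond (N : ℕ) (a c : ℕ → ℝ) (b d : ℕ → ℕ) (M : ℤ × ℤ → ModuleCat.{u} ℂ[X]) : Prop where
  quad : ∀ pq : ℤ × ℤ, pq.1 < 0 ∨ pq.2 < 0 → IsZero (M pq)
  fd : ∀ pq : ℤ × ℤ, FD (M pq)
  high : ∀ p q : ℕ, N < q → IsZero (M ((p : ℤ), (q : ℤ)))
  eb : ∀ p q : ℕ, EB (M ((p : ℤ), (q : ℤ))) (a q * c p)
  dim : ∀ p q : ℕ, dimC (M ((p : ℤ), (q : ℤ))) ≤ b q * d p

/-- The sign. -/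
def sgn (pq : ℤ × ℤ) : ℂ := (-1) ^ (pq.1 + pq.2)

theorem norm_sgn (pq : ℤ × ℤ) : ‖sgn pq‖ = 1 := by rw [sgn, norm_zpow, norm_neg, norm_one, one_zpow]

/-- The signed trace. -/
def T (M : ℤ × ℤ → ModuleCat.{u} ℂ[X]) (pq : ℤ × ℤ) : ℂ := sgn pq * tr (M pq)

variable {N : ℕ} {a c : ℕ → ℝ} {b d : ℕ → ℕ}

/-- The weight. -/
def W (N : ℕ) (a c : ℕ → ℝ) (b d : ℕ → ℕ) (pq : ℤ × ℤ) : ℝ :=
  if 0 ≤ pq.1 ∧ 0 ≤ pq.2 ∧ pq.2 ≤ N then
    ((b pq.2.toNat * d pq.1.toNat : ℕ) : ℝ) * (a pq.2.toNat * c pq.1.toNat) else 0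

/-- The inclusion of the quadrant. -/
def nat2 (pq : ℕ × ℕ) : ℤ × ℤ := ((pq.1 : ℤ), (pq.2 : ℤ))

theorem nat2_injective : Function.Injective nat2 := fun x y h => by
  simp only [nat2, Prod.mk.injEq, Nat.cast_inj] at h
  exact Prod.ext h.1 h.2

theorem mem_range_nat2 {pq : ℤ × ℤ} (h : 0 ≤ pq.1 ∧ 0 ≤ pq.2) : pq ∈ Set.range nat2 :=
  ⟨(pq.1.toNat, pq.2.toNat), Prod.ext (Int.toNat_of_nonneg h.1) (Int.toNat_of_nonneg h.2)⟩

theorem summable_W (ha : ∀ q, 0 ≤ a q) (hc : ∀ p, 0 ≤ c p) (hsum : Summable fun p : ℕ => c p * (d p : ℝ)) :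
    Summable (W N a c b d) := by
  refine (nat2_injective.summable_iff fun x hx => if_neg fun h => hx (mem_range_nat2 ⟨h.1, h.2.1⟩)).1 ?_
  have h2 : Summable fun q : ℕ => if q ≤ N then a q * (b q : ℝ) else 0 :=
    summable_of_ne_finset_zero (s := Finset.range (N + 1)) fun q hq => if_neg fun h => hq (Finset.mem_range.2 (by omega))
  refine (hsum.mul_of_nonneg h2 (fun p => mul_nonneg (hc p) (Nat.cast_nonneg _))
    (fun q => by simp only [Pi.zero_apply]; split_ifs <;> [exact mul_nonneg (ha q) (Nat.cast_nonneg _); rfl])).congr fun x => ?_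
  show _ = W N a c b d (nat2 x)
  simp only [W, nat2, Int.toNat_natCast, Nat.cast_nonneg, true_and, Nat.cast_le]
  split_ifs
  · push_cast; ring
  · simp

theorem W_eq_bound (p q : ℕ) (hq : q ≤ N) :
    W N a c b d ((p : ℤ), (q : ℤ)) = ((b q * d p : ℕ) : ℝ) * (a q * c p) := by
  rw [W, if_pos ⟨by simp, by simp, by simpa using hq⟩]
  simp

/-- The bound for anything under a term. -/
theorem Cond.norm_le {M : ℤ × ℤ → ModuleCat.{u} ℂ[X]} (h : Cond N a c b d M) (ha : ∀ q, 0 ≤ a q) (hc : ∀ p, 0 ≤ c p)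
    (pq : ℤ × ℤ) (V : ModuleCat.{u} ℂ[X]) (hfd : FD V) (hdim : dimC V ≤ dimC (M pq))
    (heb : ∀ ρ, EB (M pq) ρ → EB V ρ) (hz : IsZero (M pq) → Subsingleton V) : ‖tr V‖ ≤ W N a c b d pq := by
  have hW : 0 ≤ W N a c b d pq := by
    unfold W
    split_ifs
    · exact mul_nonneg (Nat.cast_nonneg _) (mul_nonneg (ha _) (hc _))
    · exact le_refl _
  have hzero : IsZero (M pq) → ‖tr V‖ ≤ W N a c b d pq := fun h0 => by
    haveI := hz h0
    rw [tr_of_subsingleton, norm_zero]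
    exact hW
  by_cases hneg : pq.1 < 0 ∨ pq.2 < 0
  · exact hzero (h.quad pq hneg)
  obtain ⟨⟨p, q⟩, rfl⟩ := mem_range_nat2 (pq := pq) (by omega)
  by_cases hq : N < q
  · exact hzero (h.high p q hq)
  show _ ≤ W N a c b d ((p : ℤ), (q : ℤ))
  rw [W_eq_bound p q (not_lt.1 hq)]
  refine (norm_tr_le hfd (heb _ (h.eb p q))).trans ?_
  exact mul_le_mul_of_nonneg_right (Nat.cast_le.2 (hdim.trans (h.dim p q))) (mul_nonneg (ha q) (hc p))

theorem Cond.summable_T {M : ℤ × ℤ → ModuleCat.{u} ℂ[X]} (h : Cond N a c b d M) (ha : ∀ q, 0 ≤ a q) (hc : ∀ p, 0 ≤ c p)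
    (hsum : Summable fun p : ℕ => c p * (d p : ℝ)) : Summable (T M) :=
  Summable.of_norm_bounded (summable_W (b := b) ha hc hsum) fun pq => by
    rw [T, norm_mul, norm_sgn, one_mul]
    exact h.norm_le ha hc pq _ (h.fd pq) le_rfl (fun _ => id) subsingleton_of_isZero

theorem Cond.tsum_T {M : ℤ × ℤ → ModuleCat.{u} ℂ[X]} (h : Cond N a c b d M) :
    ∑' pq : ℕ × ℕ, (-1 : ℂ) ^ (pq.1 + pq.2) * tr (M ((pq.1 : ℤ), (pq.2 : ℤ))) = ∑' pq : ℤ × ℤ, T M pq := by
  rw [← nat2_injective.tsum_eq (f := T M) fun x hx => by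
    refine mem_range_nat2 ?_
    by_contra hn
    haveI := subsingleton_of_isZero (h.quad x (by omega))
    exact hx (by rw [T, tr_of_subsingleton, mul_zero])]
  refine tsum_congr fun pq => ?_
  rw [T, sgn, nat2, ← Nat.cast_add, zpow_natCast]

variable (E : E₂CohomologicalSpectralSequence (ModuleCat.{u} ℂ[X]))

theorem next_eq (r : ℤ) (pq : ℤ × ℤ) :
    (ComplexShape.up' (⟨r, 1 - r⟩ : ℤ × ℤ)).next pq = pq + (r, 1 - r) :=
  ComplexShape.next_eq' _ (by simp)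

theorem prev_eq (r : ℤ) (pq : ℤ × ℤ) :
    (ComplexShape.up' (⟨r, 1 - r⟩ : ℤ × ℤ)).prev pq = pq - (r, 1 - r) :=
  ComplexShape.prev_eq' _ (by simp)

/-- The trace of the image of the outgoing differential. -/
def gout (r : ℤ) (hr : 2 ≤ r) (pq : ℤ × ℤ) : ℂ := tr (rg ((E.page r hr).d pq (pq + (r, 1 - r))))

theorem tr_succ (r : ℤ) (hr : 2 ≤ r) (pq : ℤ × ℤ) (hfd : FD ((E.page r hr).X pq)) :
    tr ((E.page (r + 1) (Int.le_add_one hr)).X pq) =
      tr ((E.page r hr).X pq) - gout E r hr pq - gout E r hr (pq - (r, 1 - r)) := by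
  let K := E.page r hr
  obtain ⟨hH, -, -, htr⟩ := homology_step (K.sc pq) hfd
  rw [← tr_iso (E.iso r (r + 1) pq rfl hr) hH]
  refine htr.trans ?_
  have hout : ∀ j, j = pq + (r, 1 - r) → tr (rg (K.d pq j)) = gout E r hr pq := fun j hj => by subst hj; rfl
  have hin : ∀ i, i = pq - (r, 1 - r) → tr (rg (K.d i pq)) = gout E r hr (pq - (r, 1 - r)) := fun i hi => by
    subst hi
    have h2 : ∀ j, j = pq → tr (rg (K.d (pq - (r, 1 - r)) j)) = tr (rg (K.d (pq - (r, 1 - r)) pq)) :=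
      fun j hj => by subst hj; rfl
    exact (h2 _ (sub_add_cancel _ _)).symm
  exact congrArg₂ (fun x y => tr (K.X pq) - x - y) (hout _ (next_eq r pq)) (hin _ (prev_eq r pq))

theorem cond_succ (r : ℤ) (hr : 2 ≤ r) (h : Cond N a c b d (E.page r hr).X) :
    Cond N a c b d (E.page (r + 1) (Int.le_add_one hr)).X := by
  have hz : ∀ pq, IsZero ((E.page r hr).X pq) → IsZero ((E.page (r + 1) (Int.le_add_one hr)).X pq) := fun pq hpq =>
    IsZero.of_iso (ShortComplex.isZero_homology_of_isZero_X₂ _ hpq) (E.iso r (r + 1) pq rfl hr).symm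
  have hs := fun pq => homology_step ((E.page r hr).sc pq) (h.fd pq)
  refine ⟨fun pq hpq => hz pq (h.quad pq hpq), fun pq => fd_iso (E.iso r (r + 1) pq rfl hr) (hs pq).1,
    fun p q hq => hz _ (h.high p q hq), fun p q => eb_iso (E.iso r (r + 1) _ rfl hr) (hs _).1 ((hs _).2.2.1 _ (h.eb p q)),
    fun p q => ?_⟩
  rw [← dim_iso (E.iso r (r + 1) _ rfl hr)]
  exact (hs _).2.1.trans (h.dim p q)

theorem tsum_succ (ha : ∀ q, 0 ≤ a q) (hc : ∀ p, 0 ≤ c p) (hsum : Summable fun p : ℕ => c p * (d p : ℝ))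
    (r : ℤ) (hr : 2 ≤ r) (h : Cond N a c b d (E.page r hr).X) :
    ∑' pq, T (E.page (r + 1) (Int.le_add_one hr)).X pq = ∑' pq, T (E.page r hr).X pq := by
  let G : ℤ × ℤ → ℂ := fun pq => sgn pq * gout E r hr pq
  have hG : Summable G := Summable.of_norm_bounded (summable_W (b := b) ha hc hsum) fun pq => by
    rw [norm_mul, norm_sgn, one_mul]
    have s1 := ses_ker_range ((E.page r hr).d pq (pq + (r, 1 - r)))
    refine h.norm_le ha hc pq _ (fd_right s1 (h.fd pq)) ?_ (fun ρ hρ => eb_right s1 (h.fd pq) hρ) fun h0 => ?_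
    · rw [dim_add s1 (h.fd pq)]
      exact Nat.le_add_left _ _
    · haveI := subsingleton_of_isZero h0
      exact s1.surj.subsingleton
  let e : ℤ × ℤ ≃ ℤ × ℤ := Equiv.subRight (r, 1 - r)
  have hG' : Summable (G ∘ e) := e.summable_iff.2 hG
  have key : ∀ pq, T (E.page (r + 1) (Int.le_add_one hr)).X pq = T (E.page r hr).X pq - G pq + (G ∘ e) pq := fun pq => by
    show sgn pq * _ = sgn pq * _ - sgn pq * _ + sgn (pq - (r, 1 - r)) * gout E r hr (pq - (r, 1 - r))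
    rw [tr_succ E r hr pq (h.fd pq)]
    have hs : sgn (pq - (r, 1 - r)) = - sgn pq := by
      simp only [sgn, Prod.fst_sub, Prod.snd_sub]
      rw [show pq.1 - r + (pq.2 - (1 - r)) = pq.1 + pq.2 + -1 by ring, zpow_add₀ (by norm_num)]
      simp
    rw [hs]
    ring
  rw [tsum_congr key, Summable.tsum_add ((h.summable_T ha hc hsum).sub hG) hG',
    Summable.tsum_sub (h.summable_T ha hc hsum) hG]
  rw [show ∑' pq, (G ∘ e) pq = ∑' pq, G pq from e.tsum_eq G]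
  exact sub_add_cancel _ _

theorem d_eq_zero (r : ℤ) (hr : 2 ≤ r) (hN : (N : ℤ) + 2 ≤ r) (h : Cond N a c b d (E.page r hr).X) (pq : ℤ × ℤ) :
    gout E r hr pq = 0 := by
  refine tr_rg_zero _ ?_
  by_cases hneg : pq.1 < 0 ∨ pq.2 < 0
  · exact (h.quad pq hneg).eq_of_src _ _
  obtain ⟨⟨p, q⟩, rfl⟩ := mem_range_nat2 (pq := pq) (by omega)
  by_cases hq : N < q
  · exact (h.high p q hq).eq_of_src _ _
  refine (h.quad _ (Or.inr ?_)).eq_of_tgt _ _
  show (q : ℤ) + (1 - r) < 0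
  omega

end Groth.Agent.SpTrace
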