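import Mathlib.Algebra.Category.ModuleCat.ChangeOfRings
import Mathlib.Algebra.Category.ModuleCat.Abelian
import Mathlib.Algebra.Homology.ShortComplex.ModuleCat
import Mathlib.Algebra.Polynomial.Basic
import Mathlib.LinearAlgebra.Eigenspace.Charpoly
import Mathlib.LinearAlgebra.Eigenspace.Triangularizable
import Mathlib.LinearAlgebra.Trace
import Mathlib.Analysis.Complex.Polynomial.Basic

/-!
# Traces of `X` on finite dimensional `ℂ[X]`-modules
-/

set_option autoImplicit false
set_option linter.style.haveILetI false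
set_option linter.unusedSectionVars false
set_option backward.isDefEq.respectTransparency false
set_option backward.isDefEq.respectTransparency.types false
universe u
open CategoryTheory CategoryTheory.Limits Polynomial Module

noncomputable section

namespace Groth.Agent.SpTrace

/-- The underlying complex vector space. -/
abbrev rs : ModuleCat.{u} ℂ[X] ⥤ ModuleCat.{u} ℂ := ModuleCat.restrictScalars (algebraMap ℂ ℂ[X])

/-- Multiplication by `X`. -/
abbrev Φ (M : ModuleCat.{u} ℂ[X]) : Module.End ℂ (rs.obj M) := (rs.map ((Polynomial.X : ℂ[X]) • 𝟙 M)).hom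

/-- The trace. -/
abbrev tr (M : ModuleCat.{u} ℂ[X]) : ℂ := LinearMap.trace ℂ _ (Φ M)

/-- The dimension. -/
abbrev dimC (M : ModuleCat.{u} ℂ[X]) : ℕ := finrank ℂ (rs.obj M)

/-- Finite dimensionality. -/
abbrev FD (M : ModuleCat.{u} ℂ[X]) : Prop := Module.Finite ℂ (rs.obj M)

/-- A bound for the eigenvalues. -/
abbrev EB (M : ModuleCat.{u} ℂ[X]) (ρ : ℝ) : Prop := ∀ μ : ℂ, Module.End.HasEigenvalue (Φ M) μ → ‖μ‖ ≤ ρ

variable {A B C : ModuleCat.{u} ℂ[X]}

theorem Φ_comm (g : A ⟶ B) (x : rs.obj A) : (rs.map g).hom (Φ A x) = Φ B ((rs.map g).hom x) :=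
  map_smul g.hom (Polynomial.X : ℂ[X]) (show A from x)

theorem tr_of_subsingleton [Subsingleton A] : tr A = 0 := by
  haveI : Subsingleton (rs.obj A) := ‹Subsingleton A›
  rw [tr, Subsingleton.elim (Φ A) 0, map_zero]

theorem fd_of_subsingleton [Subsingleton A] : FD A := by
  haveI : Subsingleton (rs.obj A) := ‹Subsingleton A›
  infer_instance

theorem subsingleton_of_isZero (h : IsZero A) : Subsingleton A := ModuleCat.subsingleton_of_isZero h

/-- A short exact sequence, as functions. -/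
structure Ses (ι : A ⟶ B) (g : B ⟶ C) : Prop where
  inj : Function.Injective ι
  surj : Function.Surjective g
  exact : Function.Exact ι g

theorem ses_of_shortExact {S : ShortComplex (ModuleCat.{u} ℂ[X])} (h : S.ShortExact) : Ses S.f S.g :=
  ⟨h.moduleCat_injective_f, h.moduleCat_surjective_g, (ShortComplex.ShortExact.moduleCat_exact_iff_function_exact S).1 h.exact⟩

theorem fd_middle {ι : A ⟶ B} {g : B ⟶ C} (h : Ses ι g) (hA : FD A) (hC : FD C) : FD B := by
  have hex : Function.Exact (rs.map ι).hom (rs.map g).hom := h.exact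
  haveI := hA
  haveI := hC
  exact (Module.Finite.iff_fg.2 (Submodule.fg_of_fg_map_of_fg_inf_ker (rs.map g).hom
    (by rw [Submodule.map_top, LinearMap.range_eq_top.2 (show Function.Surjective (rs.map g).hom from h.surj)]
        exact Module.Finite.fg_top)
    (by rw [top_inf_eq, hex.linearMap_ker_eq, LinearMap.range_eq_map]
        exact Module.Finite.fg_top.map _))).equiv (Submodule.topEquiv)

theorem fd_left {ι : A ⟶ B} {g : B ⟶ C} (h : Ses ι g) (hB : FD B) : FD A :=
  haveI := hB
  Module.Finite.of_injective (rs.map ι).hom h.inj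

theorem fd_right {ι : A ⟶ B} {g : B ⟶ C} (h : Ses ι g) (hB : FD B) : FD C :=
  haveI := hB
  Module.Finite.of_surjective (rs.map g).hom h.surj

theorem dim_add {ι : A ⟶ B} {g : B ⟶ C} (h : Ses ι g) (hB : FD B) : dimC B = dimC A + dimC C := by
  haveI := hB
  have hex : Function.Exact (rs.map ι).hom (rs.map g).hom := h.exact
  have h1 := LinearMap.finrank_range_add_finrank_ker (rs.map g).hom
  rw [LinearMap.range_eq_top.2 (show Function.Surjective (rs.map g).hom from h.surj), finrank_top,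
    hex.linearMap_ker_eq, LinearMap.finrank_range_of_inj (show Function.Injective (rs.map ι).hom from h.inj)] at h1
  exact h1.symm.trans (add_comm _ _)

theorem eb_left {ι : A ⟶ B} {g : B ⟶ C} (h : Ses ι g) {ρ : ℝ} (hB : EB B ρ) : EB A ρ := fun μ hμ => by
  obtain ⟨v, hv⟩ := hμ.exists_hasEigenvector
  refine hB μ (Module.End.hasEigenvalue_of_hasEigenvector (x := (rs.map ι).hom v) ⟨?_, fun h0 => hv.2 ?_⟩)
  · rw [Module.End.mem_eigenspace_iff, ← Φ_comm ι v, hv.apply_eq_smul, map_smul]
  · exact (show Function.Injective (rs.map ι).hom from h.inj) (h0.trans (map_zero _).symm)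

theorem eb_right {ι : A ⟶ B} {g : B ⟶ C} (h : Ses ι g) (hfd : FD B) {ρ : ℝ} (hB : EB B ρ) : EB C ρ :=
  fun μ hμ => by
  haveI := hfd
  by_contra hn
  let f : Module.End ℂ (rs.obj B) := Φ B - μ • 1
  have hinj : Function.Injective f := by
    rw [← LinearMap.ker_eq_bot]
    by_contra hk
    refine hn (hB μ ?_)
    rw [Module.End.hasEigenvalue_iff, Module.End.eigenspace_def]
    exact hk
  have hsurj : Function.Surjective f := LinearMap.injective_iff_surjective.1 hinj
  haveI := fd_right h hfd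
  let f' : Module.End ℂ (rs.obj C) := Φ C - μ • 1
  have hsurj' : Function.Surjective f' := fun c => by
    obtain ⟨b, rfl⟩ := (show Function.Surjective (rs.map g).hom from h.surj) c
    obtain ⟨b', rfl⟩ := hsurj b
    refine ⟨(rs.map g).hom b', ?_⟩
    simp only [f, f', LinearMap.sub_apply, LinearMap.smul_apply, Module.End.one_apply, map_sub, map_smul, Φ_comm g]
  have hinj' : Function.Injective f' := LinearMap.injective_iff_surjective.2 hsurj'
  refine (Module.End.hasEigenvalue_iff.1 hμ) ?_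
  rw [Module.End.eigenspace_def]
  exact LinearMap.ker_eq_bot.2 hinj'

theorem tr_add {ι : A ⟶ B} {g : B ⟶ C} (h : Ses ι g) (hB : FD B) : tr B = tr A + tr C := by
  haveI := hB
  haveI := fd_left h hB
  haveI := fd_right h hB
  let i := (rs.map ι).hom
  let p := (rs.map g).hom
  have hi : Function.Injective i := h.inj
  have hex : Function.Exact i p := h.exact
  obtain ⟨s, hs⟩ := p.exists_rightInverse_of_surjective (LinearMap.range_eq_top.2 (show Function.Surjective p from h.surj))
  have hs' : ∀ c, p (s c) = c := fun c => LinearMap.congr_fun hs c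
  have hpi : ∀ a, p (i a) = 0 := fun a => hex.apply_apply_eq_zero a
  let e₀ : (rs.obj A × rs.obj C) →ₗ[ℂ] rs.obj B := i.coprod s
  have he : Function.Bijective e₀ := by
    refine ⟨fun x y hxy => ?_, fun b => ?_⟩
    · have h1 := congrArg p hxy
      simp only [e₀, LinearMap.coprod_apply, map_add, hpi, hs', zero_add] at h1
      refine Prod.ext (hi ?_) h1
      simpa [e₀, LinearMap.coprod_apply, h1] using hxy
    · obtain ⟨a, ha⟩ := (hex (b - s (p b))).1 (by rw [map_sub, hs', sub_self])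
      exact ⟨(a, p b), by simp [e₀, LinearMap.coprod_apply, ha]⟩
  let e := LinearEquiv.ofBijective e₀ he
  have hr : ∀ c, ∃ a, i a = Φ B (s c) - s (Φ C c) := fun c => (hex _).1 (by
    rw [map_sub, hs', show p (Φ B (s c)) = Φ C (p (s c)) from Φ_comm g (s c), hs', sub_self])
  choose r hr using hr
  let r' : rs.obj C →ₗ[ℂ] rs.obj A :=
    { toFun := r
      map_add' := fun x y => hi (by simp only [map_add, hr]; abel)
      map_smul' := fun k x => hi (by simp only [RingHom.id_apply, map_smul, hr, smul_sub]) }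
  let F : Module.End ℂ (rs.obj A × rs.obj C) :=
    (Φ A).prodMap (Φ C) + (LinearMap.inl ℂ (rs.obj A) (rs.obj C)) ∘ₗ (r' ∘ₗ LinearMap.snd ℂ (rs.obj A) (rs.obj C))
  have hconj : e.conj F = Φ B := by
    refine LinearMap.ext fun b => ?_
    obtain ⟨⟨a, c⟩, rfl⟩ := e.surjective b
    rw [LinearEquiv.conj_apply_apply, LinearEquiv.symm_apply_apply]
    show i (Φ A a + r c) + s (Φ C c + 0) = Φ B (i a + s c)
    rw [map_add, map_add, hr, show i (Φ A a) = Φ B (i a) from Φ_comm ι a, map_zero]
    simp only [add_zero, map_add]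
    abel
  show LinearMap.trace ℂ _ (Φ B) = _
  rw [← hconj, LinearMap.trace_conj', map_add, LinearMap.trace_prodMap']
  have h0 : LinearMap.trace ℂ _
      ((LinearMap.inl ℂ (rs.obj A) (rs.obj C)) ∘ₗ (r' ∘ₗ LinearMap.snd ℂ (rs.obj A) (rs.obj C))) = 0 := by
    rw [LinearMap.trace_comp_comm', show (r' ∘ₗ LinearMap.snd ℂ (rs.obj A) (rs.obj C)) ∘ₗ
      LinearMap.inl ℂ (rs.obj A) (rs.obj C) = 0 from LinearMap.ext fun a => map_zero r', map_zero]
  rw [h0, add_zero]

theorem norm_tr_le (hA : FD A) {ρ : ℝ} (h : EB A ρ) : ‖tr A‖ ≤ (dimC A : ℝ) * ρ := by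
  haveI := hA
  rw [tr, Module.End.trace_eq_sum_roots_charpoly_of_splits (IsAlgClosed.splits _)]
  refine (norm_multiset_sum_le _).trans ?_
  have hcard : Multiset.card (Φ A).charpoly.roots = dimC A := by
    rw [← (IsAlgClosed.splits (Φ A).charpoly).natDegree_eq_card_roots, LinearMap.charpoly_natDegree]
  rw [← hcard, ← nsmul_eq_mul]
  refine (Multiset.sum_le_card_nsmul _ ρ fun x hx => ?_).trans (by rw [Multiset.card_map])
  obtain ⟨μ, hμ, rfl⟩ := Multiset.mem_map.1 hx
  exact h μ ((Module.End.hasEigenvalue_iff_isRoot_charpoly _ _).2 (Polynomial.isRoot_of_mem_roots hμ))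

theorem ses_of_iso (e : B ≅ C) : Ses (0 : ModuleCat.of ℂ[X] PUnit.{u + 1} ⟶ B) e.hom :=
  ⟨fun _ _ _ => Subsingleton.elim _ _, e.toLinearEquiv.surjective, fun y =>
    ⟨fun hy => ⟨PUnit.unit, (e.toLinearEquiv.injective (hy.trans (map_zero e.hom.hom).symm)).symm⟩,
      fun ⟨_, hx⟩ => by rw [← hx]; exact map_zero e.hom.hom⟩⟩

theorem tr_iso (e : B ≅ C) (hB : FD B) : tr B = tr C := by
  rw [tr_add (ses_of_iso e) hB, tr_of_subsingleton, zero_add]

theorem fd_iso (e : B ≅ C) (hB : FD B) : FD C := fd_right (ses_of_iso e) hB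

theorem dim_iso (e : B ≅ C) : dimC B = dimC C := (rs.mapIso e).toLinearEquiv.finrank_eq

theorem eb_iso (e : B ≅ C) (hB : FD B) {ρ : ℝ} (h : EB B ρ) : EB C ρ := eb_right (ses_of_iso e) hB h

/-- The image of a morphism. -/
abbrev rg (f : A ⟶ B) : ModuleCat.{u} ℂ[X] := ModuleCat.of ℂ[X] (LinearMap.range f.hom)

theorem ses_ker_range (f : A ⟶ B) : Ses (ModuleCat.ofHom (LinearMap.ker f.hom).subtype)
    (ModuleCat.ofHom f.hom.rangeRestrict : A ⟶ rg f) :=
  ⟨Subtype.val_injective, LinearMap.surjective_rangeRestrict _,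
    LinearMap.exact_iff.2 (by simp [LinearMap.ker_rangeRestrict])⟩

theorem tr_rg_zero (f : A ⟶ B) (hf : f = 0) : tr (rg f) = 0 := by
  subst hf
  haveI : Subsingleton (rg (0 : A ⟶ B)) := ⟨fun a b => Subtype.ext (by
    obtain ⟨x, hx⟩ := a.2
    obtain ⟨y, hy⟩ := b.2
    exact (hx.symm.trans (rfl : _ = (0 : B))).trans ((rfl : (0 : B) = _).trans hy))⟩
  exact tr_of_subsingleton

/-- One step of homology. -/
theorem homology_step (S : ShortComplex (ModuleCat.{u} ℂ[X])) (h : FD S.X₂) :
    FD S.homology ∧ dimC S.homology ≤ dimC S.X₂ ∧ (∀ ρ, EB S.X₂ ρ → EB S.homology ρ) ∧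
      tr S.homology = tr S.X₂ - tr (rg S.g) - tr (rg S.f) := by
  let K := ModuleCat.of ℂ[X] (LinearMap.ker S.g.hom)
  let I := LinearMap.range S.moduleCatToCycles
  let H := ModuleCat.of ℂ[X] (LinearMap.ker S.g.hom ⧸ I)
  have s1 := ses_ker_range S.g
  have hK : FD K := fd_left s1 h
  have s2 : Ses (ModuleCat.ofHom (I.subtype) : ModuleCat.of ℂ[X] I ⟶ K) (ModuleCat.ofHom I.mkQ : K ⟶ H) :=
    ⟨Subtype.val_injective, Submodule.mkQ_surjective _, LinearMap.exact_iff.2 (by simp)⟩
  let ψ : I →ₗ[ℂ[X]] LinearMap.range S.f.hom :=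
    { toFun := fun z => ⟨z.1.1, by obtain ⟨w, hw⟩ := z.2; exact ⟨w, congrArg Subtype.val hw⟩⟩
      map_add' := fun _ _ => rfl
      map_smul' := fun _ _ => rfl }
  have hψ : Function.Bijective ψ := by
    refine ⟨fun a b hab => ?_, ?_⟩
    · have h := congrArg Subtype.val hab
      exact Subtype.ext (Subtype.ext h)
    · rintro ⟨_, w, rfl⟩
      exact ⟨⟨S.moduleCatToCycles w, w, rfl⟩, rfl⟩
  let eI : ModuleCat.of ℂ[X] I ≅ rg S.f := (LinearEquiv.ofBijective ψ hψ).toModuleIso
  let eH : H ≅ S.homology := S.moduleCatHomologyIso.symm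
  have hH : FD H := fd_right s2 hK
  refine ⟨fd_iso eH hH, ?_, fun ρ hρ => eb_iso eH hH (eb_right s2 hK (eb_left s1 hρ)), ?_⟩
  · rw [← dim_iso eH, dim_add s1 h]
    exact le_trans ((Nat.le_add_left _ _).trans (dim_add s2 hK).ge) (Nat.le_add_right _ _)
  · rw [← tr_iso eH hH, tr_add s1 h, ← tr_iso eI (fd_left s2 hK), tr_add s2 hK]
    abel

end Groth.Agent.SpTrace
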